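import Cfsg.Agent.Lib.IG.Defs
import Cfsg.Agent.Lib.CIT.Local
import Cfsg.Agent.Lib.PP.Solv131

/-!
# Reduction of the class size condition to a simple section with `2`-nilpotent involution
centralizers
-/

set_option autoImplicit false

namespace CfsgLib.IG

open Subgroup Cfsg CfsgLib.PCompl CfsgLib.PRes CfsgLib.FT.BGN CfsgLib.FT.U4

universe u

attribute [local instance] Cit.factTwo

variable {G : Type*} [Group G]

/-- Elements of odd prime power order. -/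
def OPP (y : G) : Prop := ∃ r k : ℕ, r.Prime ∧ r ≠ 2 ∧ orderOf y = r ^ k

/-- Odd prime power elements of `K` act trivially or fixed point freely on `2`-subgroups. -/
def Fa (K : Subgroup G) : Prop :=
  ∀ y ∈ K, OPP y → ∀ Y : Subgroup G, IsPGroup 2 Y → y ∈ 𝐍(Y) →
    ∀ x ∈ Y, x ≠ 1 → x * y = y * x → y ∈ 𝐂(Y)

/-- Odd prime power elements of `K` commute with involutions. -/
def Fb (K : Subgroup G) : Prop :=
  ∀ y ∈ K, OPP y → ∃ u : G, u ≠ 1 ∧ u * u = 1 ∧ u * y = y * u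

theorem mem_norm_of_normal {N : Subgroup G} (h : N.Normal) (g : G) : g ∈ 𝐍(N) :=
  normalizer_eq_top_iff.2 h ▸ mem_top g

theorem OPP.coprime {y : G} (h : OPP y) : (orderOf y).Coprime 2 := by
  obtain ⟨r, k, hr, h2, e⟩ := h
  exact e ▸ ((Nat.coprime_primes hr Nat.prime_two).2 h2).pow_left k

theorem Fa.mono {K L : Subgroup G} (h : Fa K) (hL : L ≤ K) : Fa L := fun y hy => h y (hL hy)

theorem Fb.mono {K L : Subgroup G} (h : Fb K) (hL : L ≤ K) : Fb L := fun y hy => h y (hL hy)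

variable [Finite G]

theorem OPP.lift {X : Type*} [Group X] (f : G →* X) {H : Subgroup G} {x : G} (hx : x ∈ H)
    (h : OPP (f x)) : ∃ y ∈ H, OPP y ∧ f y = f x := by
  obtain ⟨r, k, hr, h2, e⟩ := h
  obtain ⟨y, h3, j, h4⟩ := PP131.exists_lift_pow (f.comp H.subtype) hr ⟨x, hx⟩ e
  exact ⟨y, y.2, ⟨r, j, hr, h2, by rwa [orderOf_coe]⟩, h3⟩

theorem hnpc_amb {L : Subgroup G}
    (h : ∀ H ≤ L, IsPGroup 2 H → ∀ y ∈ L, OPP y → y ∈ 𝐍(H) → y ∈ 𝐂(H)) :
    HasNormalPComplement 2 L := by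
  refine FrobNPC.hnpc_of_primePow_centralizes fun H h1 _ g hg q k hq h2 e => ?_
  have := h _ (map_subtype_le H) (h1.map L.subtype) g g.2 ⟨q, k, hq, h2, by rwa [orderOf_coe]⟩
    (le_normalizer_map L.subtype ⟨g, hg, rfl⟩)
  exact fun a ha => Subtype.ext (this _ ⟨a, ha, rfl⟩)

theorem mul_coprime_of_hnpc {C : Subgroup G} (h : HasNormalPComplement 2 C) {a b : G}
    (ha : a ∈ C) (hb : b ∈ C) (h1 : (orderOf a).Coprime 2) (h2 : (orderOf b).Coprime 2) :
    (orderOf (a * b)).Coprime 2 := by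
  have := (hnpc_mem_pResidual_iff h).1 (mul_mem
    ((hnpc_mem_pResidual_iff h (g := ⟨a, ha⟩)).2 (by rwa [← orderOf_coe]))
    ((hnpc_mem_pResidual_iff h (g := ⟨b, hb⟩)).2 (by rwa [← orderOf_coe])))
  rwa [← orderOf_coe] at this

/-- A subgroup of `K` normalizing a `2`-group `P ≠ 1` whose odd elements centralize `P`. -/
theorem Fa.hnpc {K L P : Subgroup G} (h : Fa K) (hL : L ≤ K) (hP : IsPGroup 2 P) (h0 : P ≠ ⊥)
    (hn : L ≤ 𝐍(P)) (hc : ∀ y ∈ L, OPP y → y ∈ 𝐂(P)) : HasNormalPComplement 2 L := by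
  refine hnpc_amb fun H h1 h2 y hy h3 h4 => ?_
  obtain ⟨⟨x, hx⟩, hx1⟩ := (ne_bot_iff_exists_ne_one).1 h0
  exact centralizer_le (le_sup_left : H ≤ H ⊔ P) (h y (hL hy) h3 (H ⊔ P)
    (h2.to_sup_of_normal_right' hP (h1.trans hn))
    (normalizer_inf_normalizer_le_normalizer_sup H P ⟨h4, hn hy⟩) x (mem_sup_right hx)
    (fun e => hx1 (Subtype.ext e)) (hc y hy h3 x hx))

theorem Fa.hnpc_cent {K : Subgroup G} (h : Fa K) {u : G} (h1 : u ≠ 1) (h2 : u * u = 1) :
    HasNormalPComplement 2 ↥(K ⊓ 𝐂[u]) := by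
  have hc : K ⊓ 𝐂[u] ≤ 𝐂(zpowers u) := inf_le_right.trans (cent_zpowers u).ge
  exact h.hnpc inf_le_left (Cit.isPGroup_of_sq (Cit.sq_zpowers h2)) (zpowers_ne_bot.2 h1)
    (hc.trans (centralizer_le_normalizer _)) fun y hy _ => hc hy

theorem Fa.hnpc_of_normal {K P : Subgroup G} (h : Fa K) (hb : Fb K) [hN : P.Normal]
    (hP : IsPGroup 2 P) (h0 : P ≠ ⊥) : HasNormalPComplement 2 K := by
  have hn : ∀ g, g ∈ 𝐍(P) := mem_norm_of_normal hN
  refine h.hnpc le_rfl hP h0 (fun g _ => hn g) fun y hy h1 => ?_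
  obtain ⟨u, h2, h3, h4⟩ := hb y hy h1
  refine centralizer_le (le_sup_right : P ≤ zpowers u ⊔ P) (h y hy h1 _
    ((Cit.isPGroup_of_sq (Cit.sq_zpowers h3)).to_sup_of_normal_right hP)
    (normalizer_inf_normalizer_le_normalizer_sup _ P ⟨centralizer_le_normalizer _ ?_, hn y⟩) u
    (mem_sup_left (mem_zpowers u)) h2 h4)
  exact (cent_zpowers u).ge (mem_centralizer_singleton_iff.2 h4.symm)

section Quot

variable {X : Type*} [Group X] [Finite X] {f : G →* X} {K : Subgroup G}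

theorem Fb.map (h : Fb K) (hk : (Nat.card f.ker).Coprime 2) : Fb (K.map f) := by
  rintro _ ⟨x, hx, rfl⟩ h1
  obtain ⟨y, hy, h2, e⟩ := h1.lift f hx
  obtain ⟨u, h3, h4, h5⟩ := h y hy h2
  refine ⟨f u, fun e' => h3 (GW.eq_one_of_odd_of_mul_self
    (GW.odd_orderOf_of_mem (Nat.coprime_two_right.1 hk) e') h4), by rw [← map_mul, h4, map_one], ?_⟩
  rw [← e, ← map_mul, h5, map_mul]

theorem Fa.map (h : Fa K) (hf : Function.Surjective f) (hk : (Nat.card f.ker).Coprime 2)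
    (hK : f.ker ≤ K) : Fa (K.map f) := by
  rintro _ ⟨y₀, hy₀, rfl⟩ h1 Y' hY' hn x' hx' hx1 hc
  obtain ⟨Y, hY⟩ := IsSylowIn.exists_in (p := 2) (Y'.comap f)
  have hm : Y.map f = Y' := by
    have := hY.map f
    rw [map_comap_eq_self_of_surjective hf] at this
    exact (this.eq_of_le hY' this.le le_rfl).symm
  subst hm
  obtain ⟨n, hn1, hn2⟩ := H5.normalizer_map_le_of_coprime f hf hk hY.isPGroup hn
  have hnK : n ∈ K := by
    have : n * y₀⁻¹ ∈ K := hK (by rw [MonoidHom.mem_ker, map_mul, map_inv, hn2, mul_inv_cancel])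
    simpa using mul_mem this hy₀
  obtain ⟨y, hy, h2, e⟩ := OPP.lift f (H := K ⊓ 𝐍(Y)) ⟨hnK, hn1⟩ (hn2 ▸ h1)
  rw [hn2] at e
  obtain ⟨x, hx, rfl⟩ := hx'
  have h3 : x⁻¹ * (y * x * y⁻¹) = 1 := disjoint_def.1
    (H5.disjoint_of_isPGroup_of_coprime hY.isPGroup hk) (mul_mem (inv_mem hx) (Cit.cmem hy.2 hx))
    (by rw [MonoidHom.mem_ker, map_mul, map_mul, map_mul, map_inv, map_inv, e, ← hc]; group)
  have h4 := h y hy.1 h2 Y hY.isPGroup hy.2 x hx (fun e' => hx1 (by rw [e', map_one]))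
    (by rw [inv_mul_eq_one, eq_mul_inv_iff_mul_eq] at h3; exact h3)
  rintro _ ⟨a, ha, rfl⟩
  rw [← e, ← map_mul, ← map_mul, h4 a ha]

end Quot

/-- The simple section. -/
def Sec (K : Type u) [Group K] : Prop := IsSimpleGroup K ∧ ¬ IsMulCommutative K ∧ IGp K ∧ HTh K

theorem igp_of_fa {N : Subgroup G} (h : Fa N) : IGp N := fun t ht => by
  have h1 : orderOf (t : G) = 2 := by rwa [orderOf_coe]
  refine H5.hnpc_of_map_le N.subtype N.subtype_injective ?_
    (h.hnpc_cent (GW.ne_one_of_inv h1) (GW.mul_self_of_inv h1))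
  rintro _ ⟨c, hc, rfl⟩
  exact ⟨c.2, mem_centralizer_singleton_iff.2
    (congrArg Subtype.val (mem_centralizer_singleton_iff.1 hc))⟩

theorem hth_of_fa {N : Subgroup G} [N.Normal] (h : Fa N) (hb : Fb N) : HTh N := by
  intro w hw h2
  obtain ⟨u, h3, h4, h5⟩ := hb w w.2 ⟨_, 1, hw, h2, by rw [pow_one, orderOf_coe]⟩
  set F : Subgroup N := (𝐂[u]).subgroupOf N
  have hF : HasNormalPComplement 2 F := by
    refine H5.hnpc_of_map_le N.subtype N.subtype_injective ?_ (h.hnpc_cent h3 h4)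
    rintro _ ⟨c, hc, rfl⟩
    exact ⟨c.2, hc⟩
  have hm : ∀ x : N, MulAut.conjNormal u x = x ↔ x ∈ F := fun x => by
    rw [Subtype.ext_iff, MulAut.conjNormal_apply, mul_inv_eq_iff_eq_mul, eq_comm]
    exact mem_centralizer_singleton_iff.symm
  have hT : Th (MulAut.conjNormal u) ((pResidual 2 F).map F.subtype) := by
    refine ⟨fun x => ?_, fun x => ⟨?_, fun ⟨a, b⟩ => ⟨⟨x, (hm x).1 a⟩, ?_, rfl⟩⟩⟩
    · rw [← MulAut.mul_apply, ← map_mul, h4, map_one, MulAut.one_apply]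
    · rintro ⟨c, hc, rfl⟩
      have := (hnpc_mem_pResidual_iff hF).1 hc
      rw [← orderOf_coe] at this
      exact ⟨(hm _).2 c.2, Nat.coprime_two_right.1 this⟩
    · refine (hnpc_mem_pResidual_iff hF).2 ?_
      rw [← orderOf_coe]
      exact Nat.coprime_two_right.2 b
  exact ⟨_, _, hT, (hT.mem w).2 ⟨(hm w).2 (mem_centralizer_singleton_iff.2 h5.symm),
    hw.odd_of_ne_two h2⟩⟩

theorem eq_bot_of_hnpc {K L N : Subgroup G} [N.Normal] (hO : ∀ A ≤ K, A.Normal →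
      Odd (Nat.card A) → A = ⊥) (hP : ∀ A : Subgroup G, A.Normal → IsPGroup 2 A → A = ⊥)
    (hN : N ≤ K) (hL : L ≤ N) (hn : N ≤ 𝐍(L)) (h : HasNormalPComplement 2 L) : L = ⊥ := by
  have hN' : ∀ g, g ∈ 𝐍(N) := mem_norm_of_normal inferInstance
  have h1 : GW.Od N = ⊥ := hO _ ((GW.Od_le N).trans hN)
    (normalizer_eq_top_iff.1 (eq_top_iff.2 fun g _ => GW.norm_le_norm_Od N (hN' g))) (GW.odd_Od N)
  have h2 : GW.Od L = ⊥ := eq_bot_iff.2 ((GW.Od_le_Od hL hn).trans h1.le)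
  have h3 : IsPGroup 2 L := H5.isPGroup_of_forall_coprime fun x hx hc => by
    have := pResidual_normal (G := L) (p := 2)
    refine mem_bot.1 (h2 ▸ GW.le_Od (map_subtype_le (pResidual 2 L)) ?_ ?_
      ⟨⟨x, hx⟩, (hnpc_mem_pResidual_iff h).2 (by rwa [← orderOf_coe]), rfl⟩)
    · exact fun g hg => le_normalizer_map L.subtype
        ⟨⟨g, hg⟩, mem_norm_of_normal this _, rfl⟩
    · rw [card_map_subtype]
      exact Nat.coprime_two_right.1 (hnpc_iff_coprime_pResidual.1 h)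
  have h4 : pCoreOf 2 N = ⊥ := hP _ (normalizer_eq_top_iff.1 (eq_top_iff.2 fun g _ =>
    H1.normalizer_le_normalizer_pCoreOf N (hN' g))) (H1.pCoreOf_isPGroup N)
  exact eq_bot_iff.2 ((H1.le_pCoreOf hL hn h3).trans h4.le)

theorem core_red (X : Type u) [Group X] [Finite X] : ∀ K : Subgroup X, K.Normal → Fa K → Fb K →
    ¬ HasNormalPComplement 2 K → ∃ (L : Type u) (_ : Group L) (_ : Finite L), Sec L := by
  revert X
  refine card_induction fun X _ _ ih K hK ha hb hn => ?_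
  by_cases hO : ∀ A ≤ K, A.Normal → Odd (Nat.card A) → A = ⊥
  swap
  · push Not at hO
    obtain ⟨A, h1, h2, h3, h4⟩ := hO
    have hk : (Nat.card (QuotientGroup.mk' A).ker).Coprime 2 := by
      rwa [QuotientGroup.ker_mk', Nat.coprime_two_right]
    have hs := QuotientGroup.mk'_surjective A
    refine ih _ (card_quotient_lt h4) (K.map (QuotientGroup.mk' A)) (hK.map _ hs)
      (ha.map hs hk (by rwa [QuotientGroup.ker_mk'])) (hb.map hk) fun h5 => hn ?_
    refine hnpc_of_ker_coprime ((QuotientGroup.mk' A).subgroupMap K) ?_ h5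
    rw [← card_map_of_injective K.subtype_injective]
    refine Nat.Coprime.coprime_dvd_left (card_dvd_of_le ?_) hk
    rintro _ ⟨x, hx, rfl⟩
    exact congrArg Subtype.val hx
  have hP : ∀ A : Subgroup X, A.Normal → IsPGroup 2 A → A = ⊥ := fun A h1 h2 => by
    by_contra h3
    exact hn (ha.hnpc_of_normal hb h2 h3)
  have hK0 : K ≠ ⊥ := fun e => hn (hnpc_of_isPGroup (e ▸ IsPGroup.of_bot))
  obtain ⟨N, ⟨hN1, hN2, hN3⟩, hN⟩ := (wellFounded_lt (α := Subgroup X)).has_min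
    {N | N ≤ K ∧ N.Normal ∧ N ≠ ⊥} ⟨K, le_rfl, hK, hK0⟩
  have key : ∀ L ≤ N, N ≤ 𝐍(L) → HasNormalPComplement 2 L → L = ⊥ := fun L h1 h2 =>
    eq_bot_of_hnpc hO hP hN1 h1 h2
  have hs : ∀ L ≤ N, N ≤ 𝐍(L) → L ≠ ⊥ → L = N := by
    intro L₀ a1 a2 a3
    obtain ⟨L, ⟨b1, b2, b3⟩, hL⟩ := (wellFounded_lt (α := Subgroup X)).has_min
      {L | L ≤ L₀ ∧ N ≤ 𝐍(L) ∧ L ≠ ⊥} ⟨L₀, le_rfl, a2, a3⟩
    have b4 := b1.trans a1
    suffices L.Normal from le_antisymm a1 ((eq_of_le_of_not_lt b4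
      (hN L ⟨b4.trans hN1, this, b3⟩)).ge.trans b1)
    refine normalizer_eq_top_iff.1 (eq_top_iff.2 fun g _ => ?_)
    by_contra hg
    have hgN : g •ᶜ N = N := Cit.cj_eq (mem_norm_of_normal hN2 g)
    have c1 : g •ᶜ L ≤ N := hgN ▸ map_mono b4
    have c2 : N ≤ 𝐍(g •ᶜ L) := by
      rw [Cit.norm_cj, ← hgN]
      exact map_mono b2
    have c3 : L ⊓ g •ᶜ L = ⊥ := by
      by_contra c4
      have c5 := eq_of_le_of_not_lt inf_le_left
        (hL _ ⟨inf_le_left.trans b1, H1.le_normalizer_inf b2 c2, c4⟩)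
      refine hg (Cit.mem_norm (eq_of_le_of_card_ge (inf_eq_left.1 c5) ?_).symm)
      rw [card_map_of_injective (MulAut.conj g).injective]
    have c4 : ¬ Odd (Nat.card ↥(g •ᶜ L)) := fun c5 => b3 (key L b4 b2 (hnpc_of_coprime (by
      rw [card_map_of_injective (MulAut.conj g).injective] at c5
      exact Nat.coprime_two_right.2 c5)))
    obtain ⟨v, hv, hv2⟩ := GW.exists_inv_of_not_odd c4
    refine b3 (key L b4 b2 (hnpc_of_le (ha.hnpc_cent (GW.ne_one_of_inv hv2)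
      (GW.mul_self_of_inv hv2)) fun x hx => ⟨hN1 (b4 hx), mem_centralizer_singleton_iff.2 ?_⟩))
    have c5 : x * v * x⁻¹ * v⁻¹ ∈ L ⊓ g •ᶜ L :=
      ⟨by simpa [mul_assoc] using mul_mem hx (Cit.cmem (b2 (c1 hv)) (inv_mem hx)),
        (g •ᶜ L).mul_mem (Cit.cmem (c2 (b4 hx)) hv) (inv_mem hv)⟩
    rw [c3, mem_bot, mul_inv_eq_one, mul_inv_eq_iff_eq_mul] at c5
    exact c5
  have := (nontrivial_iff_ne_bot N).2 hN3
  refine ⟨N, inferInstance, inferInstance, ⟨fun H hH => or_iff_not_imp_left.2 fun h0 => ?_⟩,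
    fun hc => hN3 (key N le_rfl le_normalizer hnpc_of_isMulCommutative),
    igp_of_fa (ha.mono hN1), hth_of_fa (ha.mono hN1) (hb.mono hN1)⟩
  have := hs _ (map_subtype_le H) (fun g hg => le_normalizer_map N.subtype
    ⟨⟨g, hg⟩, mem_norm_of_normal hH _, rfl⟩)
    (by rwa [Ne, map_eq_bot_iff_of_injective _ N.subtype_injective])
  exact map_injective N.subtype_injective (this.trans (by simp [← MonoidHom.range_eq_map]))

/-- The reduction. -/
theorem red {G : Type u} [Group G] [Finite G] (h : PP131.SQ 2 G)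
    (hn : ¬ HasNormalPComplement 2 G) : ∃ (K : Type u) (_ : Group K) (_ : Finite K),
      IsSimpleGroup K ∧ ¬ IsMulCommutative K ∧ IGp K ∧ HTh K := by
  obtain ⟨D, ⟨hD, hC⟩, hmax⟩ := (wellFounded_gt (α := Subgroup G)).has_min
    {D | IsPGroup 2 D ∧ ¬ HasNormalPComplement 2 𝐂(D)}
    ⟨⊥, IsPGroup.of_bot, fun e => hn (hnpc_top_iff.1 (hnpc_of_le e fun g _ x hx => by
      rw [mem_bot.1 hx, one_mul, mul_one]))⟩
  have hCN : 𝐂(D) ≤ 𝐍(D) := centralizer_le_normalizer _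
  set M := 𝐍(D) with hM
  let f : M →* M ⧸ D.subgroupOf M := QuotientGroup.mk' _
  have hs : Function.Surjective f := QuotientGroup.mk'_surjective _
  have hk : ∀ m : M, f m = 1 ↔ (m : G) ∈ D := fun m => QuotientGroup.eq_one_iff m
  set C := (𝐂(D)).subgroupOf M
  have hC1 : C.Normal := normal_subgroupOf_of_le_normalizer
    (FrobNPC.normalizer_le_normalizer_centralizer D)
  have hK : ¬ HasNormalPComplement 2 (C.map f) := fun e => hC ((hnpc_subgroupOf_iff hCN).1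
    (hnpc_of_ker_le_center (f.subgroupMap C) (fun x hx => mem_center_iff.2 fun y =>
      Subtype.ext (Subtype.ext (y.2 _ ((hk _).1 (congrArg Subtype.val hx))).symm)) e))
  refine core_red _ (C.map f) (hC1.map f hs) ?_ ?_ hK
  · rintro _ ⟨y₀, hy₀, rfl⟩ h1 Y' hY' hn' x' hx' hx1 hc
    obtain ⟨y, hy, h2, e⟩ := h1.lift f hy₀
    rw [← e] at hn' hc ⊢
    obtain ⟨x, rfl⟩ := hs x'
    have h2' : OPP (y : G) := by simpa [OPP] using h2
    set Y := (Y'.comap f).map M.subtype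
    have hY : IsPGroup 2 Y := (hY'.comap_of_ker_isPGroup f (by
      rw [QuotientGroup.ker_mk']; exact hD.comap_subtype)).map _
    have hyY : (y : G) ∈ 𝐍(Y) := le_normalizer_map M.subtype ⟨y, le_normalizer_comap f hn', rfl⟩
    have hDY : D ≤ Y := fun d hd => ⟨⟨d, le_normalizer hd⟩, by
      change f _ ∈ Y'
      rw [(hk _).2 hd]
      exact one_mem _, rfl⟩
    have conj : ∀ a : G, (orderOf (a * y * a⁻¹)).Coprime 2 := fun a => by
      have : orderOf (a * y * a⁻¹) = orderOf (y : G) := (MulAut.conj a).orderOf_eq _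
      exact this ▸ h2'.coprime
    have h3 : (x : G) * y * (x : G)⁻¹ * (y : G)⁻¹ ∈ D := (hk (x * y * x⁻¹ * y⁻¹)).1 (by
      rw [map_mul, map_mul, map_mul, map_inv, map_inv, hc]; group)
    have h4 : (x : G) * y * (x : G)⁻¹ * (y : G)⁻¹ = 1 := by
      refine H5.eq_one_of_mem_of_coprime hD h3 (Nat.Coprime.coprime_dvd_left
        (Commute.orderOf_mul_dvd_mul_orderOf ?_) ((conj x).mul_left (by
          rw [orderOf_inv]; exact h2'.coprime)))
      refine Commute.inv_right ?_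
      have : Commute ((x : G) * y * (x : G)⁻¹ * (y : G)⁻¹) y := hy _ h3
      simpa using this.mul_left (Commute.refl (y : G))
    rw [mul_inv_eq_one, mul_inv_eq_iff_eq_mul] at h4
    set E := Y ⊓ 𝐂[(y : G)]
    have hDE : D < E := lt_of_le_of_ne
      (fun d hd => ⟨hDY hd, mem_centralizer_singleton_iff.2 (hy d hd)⟩) fun e' =>
      hx1 ((hk x).2 (e' ▸ ⟨⟨x, hx', rfl⟩, mem_centralizer_singleton_iff.2 h4⟩))
    have hE : HasNormalPComplement 2 𝐂(E) := by
      by_contra h5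
      exact hmax E ⟨hY.to_le inf_le_left, h5⟩ hDE
    have hyE : (y : G) ∈ 𝐂(E) := fun a ha => mem_centralizer_singleton_iff.1 ha.2
    have h5 : E = Y := by
      by_contra h6
      obtain ⟨a, ha, haE⟩ := SetLike.exists_of_lt
        (lt_inf_normalizer_of_isPGroup hY (lt_of_le_of_ne inf_le_left h6))
      have h7 : a * y * a⁻¹ * (y : G)⁻¹ = 1 := H5.eq_one_of_mem_of_coprime hY
        (by simpa [mul_assoc] using mul_mem ha.1 (Cit.cmem hyY (inv_mem ha.1)))
        (mul_coprime_of_hnpc hE (Cit.cmem (FrobNPC.normalizer_le_normalizer_centralizer E ha.2) hyE)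
          (inv_mem hyE) (conj a) (by rw [orderOf_inv]; exact h2'.coprime))
      rw [mul_inv_eq_one, mul_inv_eq_iff_eq_mul] at h7
      exact haE ⟨ha.1, mem_centralizer_singleton_iff.2 h7⟩
    intro a' ha'
    obtain ⟨a, rfl⟩ := hs a'
    rw [← map_mul, ← map_mul]
    exact congrArg f (Subtype.ext (hyE a (h5 ▸ ⟨a, ha', rfl⟩)))
  · rintro _ ⟨y₀, hy₀, rfl⟩ h1
    obtain ⟨y, hy, h2, e⟩ := h1.lift f hy₀
    have h2' : OPP (y : G) := by simpa [OPP] using h2
    obtain ⟨T, hDT, hT⟩ := IsSylowIn.exists_ge hD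
      (fun d hd => mem_centralizer_singleton_iff.2 (hy d hd) : D ≤ 𝐂[(y : G)])
    have h3 : D ≠ T := by
      rintro rfl
      have h4 : ¬ 2 ^ 2 ∣ Nat.card (M ⧸ D.subgroupOf M) := fun h5 => by
        have h6 : 2 ^ 2 ∣ D.relIndex 𝐂[(y : G)] * (𝐂[(y : G)]).index := by
          rw [relIndex_mul_index hT.le]
          exact h5.trans (relIndex_dvd_index_of_le le_normalizer)
        exact h y h2' (Nat.Coprime.dvd_of_dvd_mul_left
          (((Nat.prime_two.coprime_iff_not_dvd).2 hT.not_dvd).pow_left 2) h6)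
      obtain ⟨P⟩ : Nonempty (Sylow 2 (M ⧸ D.subgroupOf M)) := inferInstance
      refine hK (hnpc_subgroup (hnpc_two_of_isCyclic P ?_) _)
      obtain ⟨k, hk'⟩ := P.isPGroup'.exists_card_eq
      refine isCyclic_of_card_dvd_prime (p := 2) ?_
      rw [hk']
      rcases k with _ | _ | k
      · simp
      · simp
      · exact absurd ((pow_dvd_pow 2 (by omega)).trans (hk' ▸ card_subgroup_dvd_card _)) h4
    obtain ⟨w, hw, hwD⟩ := SetLike.exists_of_lt
      (lt_inf_normalizer_of_isPGroup hT.isPGroup (lt_of_le_of_ne hDT h3))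
    have h4 : IsPGroup 2 ((T.subgroupOf M).map f) := hT.isPGroup.comap_subtype.map f
    obtain ⟨u, hu, hu1, hu2⟩ := Cit.exists_inv_zpowers (Cit.two_of_mem h4 ⟨⟨w, hw.2⟩, hw.1, rfl⟩)
      fun e' => hwD ((hk _).1 e')
    obtain ⟨j, rfl⟩ := hu
    refine ⟨_, hu1, hu2, Commute.zpow_left ?_ j⟩
    rw [← e]
    exact Commute.map (Subtype.ext (mem_centralizer_singleton_iff.1 (hT.le hw.1))) f

end CfsgLib.IG
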