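import Cfsg.Agent.Lib.E6.Rk

/-!
# Groups whose involution centralizers have normal `2`-complements: definitions
-/

set_option autoImplicit false

namespace CfsgLib.IG

open Subgroup Cfsg

/-- Centralizers of involutions have normal `2`-complements. -/
def IGp (K : Type*) [Group K] : Prop :=
  ∀ t : K, orderOf t = 2 → HasNormalPComplement 2 (centralizer ({t} : Set K))

/-- `σ² = 1`, and the fixed points of `σ` of odd order form the subgroup `Θ`. -/
structure Th {K : Type*} [Group K] (σ : MulAut K) (Θ : Subgroup K) : Prop where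
  sq : ∀ x, σ (σ x) = x
  mem : ∀ x, x ∈ Θ ↔ σ x = x ∧ Odd (orderOf x)

/-- Every element of odd prime order lies in some `Θ`. -/
def HTh (K : Type*) [Group K] : Prop :=
  ∀ w : K, (orderOf w).Prime → orderOf w ≠ 2 → ∃ (σ : MulAut K) (Θ : Subgroup K), Th σ Θ ∧ w ∈ Θ

namespace Th

variable {K : Type*} [Group K] {σ : MulAut K} {Θ : Subgroup K} (h : Th σ Θ)
include h

theorem conj_mem {c x : K} (hc : σ c = c) (hx : x ∈ Θ) : c * x * c⁻¹ ∈ Θ := by
  obtain ⟨h1, h2⟩ := (h.mem x).1 hx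
  refine (h.mem _).2 ⟨by rw [map_mul, map_mul, map_inv, hc, h1], ?_⟩
  have : orderOf (c * x * c⁻¹) = orderOf x := (MulAut.conj c).orderOf_eq x
  rwa [this]

theorem mem_normalizer [Finite K] {c : K} (hc : σ c = c) : c ∈ normalizer (Θ : Set K) :=
  mem_normalizer_fintype fun _ hx => h.conj_mem hc hx

theorem odd [Finite K] : Odd (Nat.card Θ) := by
  refine Nat.not_even_iff_odd.1 fun he => ?_
  obtain ⟨u, hu, h1, h2⟩ := Suz.exists_invol_of_even he
  have h3 := ((h.mem u).1 hu).2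
  rw [Sig.orderOf_eq_two_of_mul_self h2 h1] at h3
  exact absurd h3 (by decide)

/-- `σ` fixes a Sylow `2`-subgroup. -/
theorem exists_sylow [Finite K] : ∃ S : Sylow 2 K, ∀ x ∈ (S : Subgroup K), σ x ∈ (S : Subgroup K) := by
  have h2 : IsPGroup 2 (zpowers σ) := IsPGroup.of_card_dvd_pow (n := 1) (by
    rw [Nat.card_zpowers]
    exact orderOf_dvd_of_pow_eq_one (by ext x; simpa [pow_two] using h.sq x))
  obtain ⟨S, hS⟩ := h2.nonempty_fixed_point_of_prime_not_dvd_card (Sylow 2 K)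
    (not_dvd_card_sylow 2 K)
  refine ⟨S, fun x hx => ?_⟩
  have h3 : σ • S = S := hS ⟨σ, mem_zpowers σ⟩
  rw [← h3]
  exact ⟨x, hx, rfl⟩

/-- An invariant nontrivial `2`-subgroup contains a fixed involution. -/
theorem exists_inv [Finite K] {T : Subgroup K} (hT : IsPGroup 2 T) (h0 : T ≠ ⊥)
    (hσ : ∀ x ∈ T, σ x ∈ T) : ∃ z ∈ T, orderOf z = 2 ∧ σ z = z := by
  have h1 : ∃ y ∈ T, y ≠ 1 ∧ σ y = y := by
    by_contra! hc
    classical
    haveI := Fintype.ofFinite T
    let f : T → T := fun x => ⟨σ x, hσ x x.2⟩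
    have hf : f^[2 ^ 1] = id := by
      funext x
      exact Subtype.ext (h.sq x)
    have h3 := Equiv.Perm.card_fixedPoints_modEq hf
    have h4 : Fintype.card f.fixedPoints = 1 := Fintype.card_eq_one_iff.2
      ⟨⟨1, Subtype.ext (map_one σ)⟩, fun y => Subtype.ext (Subtype.ext (by
        by_contra e
        exact hc _ y.1.2 e (congrArg Subtype.val y.2)))⟩
    obtain ⟨n, hn, h5⟩ := hT.nontrivial_iff_card.1 ((nontrivial_iff_ne_bot T).2 h0)
    rw [h4, ← Nat.card_eq_fintype_card, h5] at h3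
    obtain ⟨m, rfl⟩ := Nat.exists_eq_succ_of_ne_zero hn.ne'
    rw [Nat.ModEq, pow_succ] at h3
    omega
  obtain ⟨y, hy, h2, h3⟩ := h1
  obtain ⟨z, hz, h4, h5⟩ := Cit.exists_inv_zpowers (Cit.two_of_mem hT hy) h2
  refine ⟨z, zpowers_le.2 hy hz, Sig.orderOf_eq_two_of_mul_self h5 h4, ?_⟩
  obtain ⟨k, rfl⟩ := hz
  simp only [map_zpow, h3]

/-- An invariant elementary abelian `2`-group has many fixed points. -/
theorem card_le_sq [Finite K] {V : Subgroup K} (hV : ∀ v ∈ V, v * v = 1)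
    (hσ : ∀ x ∈ V, σ x ∈ V) :
    Nat.card V ≤ Nat.card ↥(V ⊓ σ.toMonoidHom.eqLocus (MonoidHom.id K)) ^ 2 := by
  set F := V ⊓ σ.toMonoidHom.eqLocus (MonoidHom.id K)
  have hc : ∀ a ∈ V, ∀ b ∈ V, a * b = b * a := fun a ha b hb => Cit.comm_of_sq hV ha hb
  let f : V →* F := MonoidHom.mk' (fun v => ⟨v * σ v, mul_mem v.2 (hσ _ v.2), by
      change σ (v * σ v) = v * σ v
      rw [map_mul, h.sq, hc _ v.2 _ (hσ _ v.2)]⟩) fun a b => Subtype.ext (by
    change a * b * σ (a * b) = a * σ a * (b * σ b)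
    rw [map_mul, mul_assoc, mul_assoc, ← mul_assoc b.1, hc _ b.2 _ (hσ _ a.2), mul_assoc])
  have h1 : Nat.card f.ker ≤ Nat.card F := Nat.card_le_card_of_injective
    (fun v => (⟨v.1.1, v.1.2, by
      have h2 : v.1.1 * σ v.1.1 = 1 := congrArg Subtype.val v.2
      change σ v.1.1 = v.1.1
      exact mul_left_cancel (h2.trans (hV _ v.1.2).symm)⟩ : F))
    fun a b e => Subtype.ext (Subtype.ext (congrArg (fun x : F => x.1) e))
  have h2 : f.ker.index ≤ Nat.card F := by
    rw [index_ker]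
    exact card_le_card_group _
  rw [← f.ker.card_mul_index, pow_two]
  exact Nat.mul_le_mul h1 h2

end Th

end CfsgLib.IG
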