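import Cfsg.Agent.Lib.IG.RankC

/-!
# Groups whose involution centralizers have normal `2`-complements: rank two
-/

set_option autoImplicit false

namespace CfsgLib.IG

open Subgroup Cfsg CfsgLib.FT.BGN CfsgLib.Cit CfsgLib.H1 CfsgLib.SE CfsgLib.Sig CfsgLib.Cop
open scoped commutatorElement

variable {G : Type*} [Group G] [Finite G]

theorem IGp.comm_of_conj (h : IGp G) {t c a u : G} (ht : IsInv t) {T : Subgroup G}
    (hT : IsSylowIn 2 T 𝐂[t]) (hc : c ∈ 𝐂[t]) (ha : a ∈ T) (hu : u ∈ T)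
    (h1 : c * a * c⁻¹ ∈ 𝐂[u]) : ∃ s ∈ T, s * a * s⁻¹ ∈ 𝐂[u] := by
  obtain ⟨o, ho, s, hs, rfl⟩ := h.exists_mul ht hT hc
  refine ⟨s, hs, ?_⟩
  have h2 : s * a * s⁻¹ ∈ T := mul_mem (mul_mem hs ha) (inv_mem hs)
  rw [show o * s * a * (o * s)⁻¹ = o * (s * a * s⁻¹) * o⁻¹ by group] at h1
  generalize s * a * s⁻¹ = b at h1 h2
  have h4 := mem_centralizer_singleton_iff.1 h1
  have h5 : u⁻¹ * o⁻¹ * u⁻¹⁻¹ * o ∈ oc t :=
    mul_mem (cmem (le_normalizer_oc t (hT.le (inv_mem hu))) (inv_mem ho)) ho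
  have h3 : u⁻¹ * b * u * b⁻¹ ∈ GW.Od 𝐂[t] ⊓ T := by
    refine mem_inf.2 ⟨?_, mul_mem (mul_mem (mul_mem (inv_mem hu) h2) hu) (inv_mem h2)⟩
    have e : u⁻¹ * b * u * b⁻¹ = u⁻¹ * o⁻¹ * u⁻¹⁻¹ * o *
        (b * (u⁻¹ * o⁻¹ * u⁻¹⁻¹ * o) * b⁻¹)⁻¹ := by
      calc _ = u⁻¹ * o⁻¹ * (o * b * o⁻¹ * u) * (u⁻¹ * o * u * b⁻¹) := by group
        _ = _ := by rw [h4]; group
    rw [e]
    exact mul_mem h5 (inv_mem (cmem (le_normalizer_oc t (hT.le h2)) h5))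
  rw [GW.Od_inf_eq_bot hT.isPGroup, mem_bot, mul_inv_eq_one, mul_assoc, inv_mul_eq_iff_eq_mul]
    at h3
  exact mem_centralizer_singleton_iff.2 h3

theorem IGp.not_fused (h : IGp G) {S : Subgroup G} (hS : IsSylowIn 2 S ⊤) {z u a g : G}
    (hN : N4 S z u) (hV : Tr4 (zpowers z ⊔ zpowers u)) (ha : a ∈ S) (h1 : a ∉ 𝐂[u])
    (h2 : g * a * g⁻¹ ∈ 𝐂((zpowers z ⊔ zpowers u : Subgroup G)))
    (h3 : g * z * g⁻¹ ∈ zpowers z ⊔ zpowers u) : False := by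
  obtain ⟨n, hn, e⟩ := hV.tr _ h3 (hN.zi.conj g).2 z (mem_sup_left (mem_zpowers z)) hN.zi.2
  have h4 : n * g ∈ 𝐂[z] := mem_cent_of_conj_eq (Eq.trans (by group) e)
  have h5 := (mem_cent_four.1 (cmem (FT.U4.norm_le_norm_cent _ hn) h2)).2
  obtain ⟨s, hs, h6⟩ := h.comm_of_conj hN.zi (hS.mono hN.cent le_top) h4 ha hN.um
    (by rwa [show n * g * a * (n * g)⁻¹ = n * (g * a * g⁻¹) * n⁻¹ by group])
  by_cases h7 : s ∈ 𝐂[u]
  · exact h1 ((Subgroup.mul_mem_cancel_left _ h7).1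
      ((Subgroup.mul_mem_cancel_right _ (inv_mem h7)).1 h6))
  · exact h7 (inv_mem_iff.1
      ((Subgroup.mul_mem_cancel_left _ (hN.mul_mem_cent hs ha h7 h1)).1 h6))

theorem exists_move' (h8 : ¬ ∃ B : Subgroup G, E8 B) {S : Subgroup G} (hS : IsSylowIn 2 S ⊤)
    {z u t g : G} (hN : N4 S z u) (h : ¬ S ≤ 𝐂[u]) (hg : g * z * g⁻¹ = t) (hne : t ≠ z)
    (hc : t * z = z * t) : ∃ k, k * t * k⁻¹ = t ∧ k * z * k⁻¹ = t * z := by
  have : Fact (Nat.Prime 2) := ⟨Nat.prime_two⟩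
  have ht : IsInv t := hg ▸ hN.zi.conj g
  obtain ⟨R, hR⟩ := IsSylowIn.exists_in (p := 2) (𝐂[t] ⊓ 𝐂[z])
  refine exists_move hN.zi hne hc hR (fun e he _ hi => (E6.Rk.four_cases h8 ht hN.zi hne hc hi.1
    (hR.le he).1 (hR.le he).2).resolve_left hi.2) fun h1 => h ?_
  have h2 : Nat.card S ≤ Nat.card R := (card_map_conj g S).ge.trans
    (h1.card_le (hS.isPGroup.map _) (hg ▸ map_le_cent hN.cent g))
  obtain ⟨c, hc, h3⟩ := (hS.mono hN.cent le_top).exists_conj_le hR.isPGroup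
    (hR.le.trans inf_le_right)
  have h4 : c •ᶜ R = S := eq_of_le_of_card_ge h3 (h2.trans (card_map_conj c R).ge)
  have h5 : S ≤ 𝐂[c * t * c⁻¹] := h4 ▸ map_le_cent h1.le c
  have h6 : c * t * c⁻¹ ∈ S := mem_of_sylow hS (ht.conj c) (mem_top _) h5
  rcases E6.Rk.four_cases h8 hN.zi hN.ui hN.ne hN.comm (ht.conj c).1 (hN.cent h6)
    (mem_centralizer_singleton_iff.2 (mem_centralizer_singleton_iff.1 (h5 hN.um)).symm)
    with e | e | e | e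
  · exact absurd e (ht.conj c).2
  · exact absurd (by simpa using e.trans (conj_eq_of_mem_cent hc).symm) hne
  · exact e ▸ h5
  · rw [e] at h5
    intro s hs
    have h7 := mem_centralizer_singleton_iff.1 (h5 hs)
    rw [← mul_assoc, mem_centralizer_singleton_iff.1 (hN.cent hs), mul_assoc, mul_assoc] at h7
    exact mem_centralizer_singleton_iff.2 (mul_left_cancel h7)

theorem IGp.cent_four (hI : IGp G) (hs : IsSimpleGroup G) (hna : ¬ IsMulCommutative G)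
    (h8 : ¬ ∃ B : Subgroup G, E8 B) {S : Subgroup G} (hS : IsSylowIn 2 S ⊤) {z u : G}
    (hN : N4 S z u) (h : ¬ S ≤ 𝐂[u]) :
    ∃ t, IsInv t ∧ t ≠ z ∧ S ⊓ 𝐂[t] = zpowers z ⊔ zpowers t := by
  have : Fact (Nat.Prime 2) := ⟨Nat.prime_two⟩
  have h8' : ∀ a b : G, ¬ ∃ B, E8 B ∧ B ≤ 𝐂[a] ∧ B ≤ 𝐂[b] := fun _ _ ⟨B, a, _⟩ => h8 ⟨B, a⟩
  have hzu : z ∈ 𝐂[u] := mem_centralizer_singleton_iff.2 hN.comm
  have hD : ∀ t ∈ S, t ∉ 𝐂[u] → ∀ g, g * z * g⁻¹ = t →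
      ∃ t, IsInv t ∧ t ≠ z ∧ S ⊓ 𝐂[t] = zpowers z ⊔ zpowers t := fun t htS h1 g hg => by
    have ht : IsInv t := hg ▸ hN.zi.conj g
    have hne : t ≠ z := fun e => h1 (e ▸ hzu)
    have hc : t * z = z * t := mem_centralizer_singleton_iff.1 (hN.cent htS)
    obtain ⟨k, k1, k2⟩ := exists_move' h8 hS hN h hg hne hc
    obtain ⟨u1, u2⟩ := n4_conj hN htS ht h1
    have hT := tr4_of ht hN.zi hne hc (h8' _ _) k1 k2 u1 u2
    refine (hT.cases hS hN).resolve_left fun ⟨m, hm⟩ => ?_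
    have h2 := hT.cj m
    rw [hm] at h2
    exact hI.not_fused hS hN h2 htS h1 (g := m)
      (le_cent_of_sq h2.sq (hm ▸ cj_mem (mem_sup_left (mem_zpowers t))))
      (hm ▸ cj_mem (mem_sup_right (mem_zpowers z)))
  obtain ⟨g, hg, hne⟩ := E6.Rk.exists_fused hs hna hS hN.zi hN.cent
  by_cases h1 : g * z * g⁻¹ ∈ 𝐂[u]
  swap
  · exact hD _ hg h1 g rfl
  obtain ⟨s, hsS, hsu⟩ := SetLike.not_le_iff_exists.1 h
  have hsz := conj_eq_of_mem_cent (hN.cent hsS)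
  have h2 := hN.conj' hsS hsu
  obtain ⟨k, hk⟩ : ∃ k, k * z * k⁻¹ = u := by
    rcases E6.Rk.four_cases h8 hN.zi hN.ui hN.ne hN.comm (hN.zi.conj g).1 (hN.cent hg) h1
      with e | e | e | e
    · exact absurd e (hN.zi.conj g).2
    · exact absurd e hne
    · exact ⟨g, e⟩
    · refine ⟨s⁻¹ * g, ?_⟩
      calc _ = s⁻¹ * (g * z * g⁻¹) * s := by group
        _ = u := by rw [e, ← h2]; group
  obtain ⟨l, l1, l2⟩ := exists_move' h8 hS hN h hk hN.ne.symm hN.comm.symm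
  have hV := tr4_of hN.ui hN.zi hN.ne.symm hN.comm.symm (h8' _ _) l1 l2 hsz h2
  rw [sup_comm] at hV
  have hmem : ∀ e ∈ S, e ∈ 𝐂[u] → e * e = 1 → e ∈ zpowers z ⊔ zpowers u := fun e a b c =>
    hV.iso e (mem_cent_four.2 ⟨hN.cent a, b⟩) c
  by_cases h3 : ∃ t ∈ S, t ∉ 𝐂[u] ∧ t * t = 1
  · obtain ⟨t, htS, h4, h5⟩ := h3
    have ht : IsInv t := ⟨h5, fun e => h4 (e ▸ one_mem _)⟩
    obtain ⟨m, hm⟩ := thompson (res_eq_top hs hna) hS hN htS ht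
    obtain ⟨n, -, e⟩ := hV.tr z (mem_sup_left (mem_zpowers z)) hN.zi.2 _
      (hmem _ hm.1 hm.2 (ht.conj m).1) (ht.conj m).2
    refine hD t htS h4 (m⁻¹ * n) ?_
    calc _ = m⁻¹ * (n * z * n⁻¹) * m := by group
      _ = t := by rw [e]; group
  push Not at h3
  have key : ∀ a ∈ S, a ∉ 𝐂[u] → ∀ g : G, g * a * g⁻¹ ∈ S → g * a * g⁻¹ ∉ 𝐂[u] := by
    intro a ha h4 g h5 h6
    obtain ⟨i, hi, i1, ii⟩ := exists_inv_zpowers (two_of_mem hS.isPGroup ha)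
      fun e => h4 (e ▸ one_mem _)
    have hiS : i ∈ S := zpowers_le.2 ha hi
    have hia : a * i * a⁻¹ = i := by
      obtain ⟨j, rfl⟩ := hi
      group
    have h7 : i = z := by
      rcases E6.Rk.four_cases h8 hN.zi hN.ui hN.ne hN.comm ii (hN.cent hiS)
        (by_contra fun e => h3 i hiS e ii) with e | e | e | e
      · exact absurd e i1
      · exact e
      · exact absurd (mem_cent_of_conj_eq (e ▸ hia)) h4
      · rw [e, ← _root_.conj_mul, conj_eq_of_mem_cent (hN.cent ha)] at hia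
        exact absurd (mem_cent_of_conj_eq (mul_left_cancel hia)) h4
    have h9 : g * z * g⁻¹ ∈ zpowers (g * a * g⁻¹) := by
      obtain ⟨j, hj⟩ := hi
      exact ⟨j, by rw [← h7, ← hj]; simp⟩
    exact hI.not_fused hS hN hV ha h4 (mem_cent_four.2 ⟨hN.cent h5, h6⟩)
      (hmem _ (zpowers_le.2 h5 h9) (zpowers_le.2 h6 h9) (hN.zi.conj g).1)
  have h4 := Fusion.commutator_inf_le_of_isSylowIn hS (L := 𝐂[u]) fun x hx g _ hg => by
    by_cases a : x ∈ 𝐂[u] <;> by_cases b : g * x * g⁻¹ ∈ 𝐂[u]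
    · exact mul_mem b (inv_mem a)
    · exact absurd (by simpa [mul_assoc] using a)
        (key _ hg b g⁻¹ (by simpa [mul_assoc] using hx))
    · exact absurd b (key x hx a g hg)
    · exact hN.mul_mem_cent hg (inv_mem hx) b fun e => a (inv_mem_iff.1 e)
  have h5 : ⁅(⊤ : Subgroup G), (⊤ : Subgroup G)⁆ = ⊤ := BSW.commutator_eq_top_of_simple hna
  rw [h5, top_inf_eq] at h4
  exact absurd h4 h

end CfsgLib.IG
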