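import Cfsg.Agent.Lib.IG.RankB
import Cfsg.Agent.Lib.IG.RankD

/-!
# Simple groups whose involution centralizers have normal `2`-complements: the reduction
-/

set_option autoImplicit false

namespace CfsgLib.IG

open Subgroup Cfsg CfsgLib.FT.BGN CfsgLib.Cit CfsgLib.H1 CfsgLib.SE CfsgLib.Sig CfsgLib.Cop

universe u

theorem rank {G : Type u} [Group G] [Finite G] (hs : IsSimpleGroup G)
    (hna : ¬ IsMulCommutative G) (hI : IGp G) :
    (CIT G ∧ ∃ B : Subgroup G, E8 B) ∨ GD.Dih G := by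
  have : Fact (Nat.Prime 2) := ⟨Nat.prime_two⟩
  by_cases h8 : ∃ B : Subgroup G, E8 B
  · exact Or.inl ⟨h8.elim fun _ hB => hI.cit_of_e8 hs hna hB, h8⟩
  refine Or.inr ?_
  obtain ⟨S, hS⟩ := IsSylowIn.exists_in (p := 2) (⊤ : Subgroup G)
  by_cases hc : ∀ e ∈ S, e * e = 1 → S ≤ 𝐂[e]
  · exact dih_of_central hs hna hI hS h8 hc
  push Not at hc
  obtain ⟨t, htS, htt, ht⟩ := hc
  rcases PGrp.isCyclic_or_isDQSD_or_exists_normal_card_sq hS.isPGroup with
    h3 | ⟨-, h3⟩ | ⟨E, hE, h3, h4⟩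
  · exact absurd (fun s hs => mem_centralizer_singleton_iff.2 (congrArg Subtype.val
      (mul_comm' (⟨s, hs⟩ : S) ⟨t, htS⟩))) ht
  · exact dih_of_dqsd hs hna hI hS h3
  obtain ⟨z, u, hN⟩ := E6.Rk.n4_of_four hS.isPGroup (map_subtype_le E)
    (by rw [card_map_of_injective S.subtype_injective, h4]; rfl)
    (isElementaryAbelian_map h3 S.subtype) (by
      have h5 := map_normalizer_le' (le_normalizer_of_normal (H := E) (K := ⊤)) S.subtype
      rwa [← MonoidHom.range_eq_map, range_subtype] at h5)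
  obtain ⟨s, h5, h6, h7⟩ := hI.cent_four hs hna h8 hS hN fun h => ht (by
    rcases E6.Rk.four_cases h8 hN.zi hN.ui hN.ne hN.comm htt (hN.cent htS) (h htS)
      with e | e | e | e <;> rw [e]
    · exact fun s _ => by rw [mem_centralizer_singleton_iff, mul_one, one_mul]
    · exact hN.cent
    · exact h
    · exact (le_inf le_rfl h).trans hN.cent_mul)
  exact dih_of_cent_four hs hna hI hS hN.zi h5 h6 h7

end CfsgLib.IG
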