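import Cfsg.Agent.Lib.IG.MainA
import Cfsg.Agent.Lib.IG.Rank
import Cfsg.Agent.Lib.IG.CitBig

/-!
# The class size criterion: no nonabelian simple group satisfies `SQ 2`
-/

set_option autoImplicit false

namespace CfsgLib.IG

universe u

theorem false_of_simple (K : Type u) [Group K] [Finite K] (hs : IsSimpleGroup K)
    (hna : ¬ IsMulCommutative K) (hI : IGp K) (hT : HTh K) : False :=
  false_of_simple_of hs hna hT (rank hs hna hI) fun _ _ h => big_four h

theorem not_sq (X : Type u) [Group X] [Finite X] [IsSimpleGroup X] (hna : ¬ IsMulCommutative X) :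
    ¬ PP131.SQ 2 X :=
  not_sq_of false_of_simple X hna

end CfsgLib.IG
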