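import Cfsg.Agent.Lib.IG.Defs
import Cfsg.Agent.Lib.GW.Proj
import Cfsg.Agent.Lib.HI.Basic

/-!
# Groups whose involution centralizers have normal `2`-complements: four-groups
-/

set_option autoImplicit false

namespace CfsgLib.IG

open Subgroup Cfsg CfsgLib.FT.BGN CfsgLib.Cit CfsgLib.H1 CfsgLib.SE CfsgLib.Sig CfsgLib.Cop

variable {G : Type*} [Group G] [Finite G]

namespace IGp

variable (h : IGp G)
include h

theorem nilp2 {t : G} (ht : IsInv t) : GW.Nilp2 𝐂[t] := GW.nilp2_of_hnpc (h t ht.orderOf)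

theorem solC : SolC G := fun t ht => HI.solv_of_nilp2 (GW.nilp2_of_hnpc (h t ht))

theorem mem_oc {t x : G} (ht : IsInv t) (hx : x ∈ 𝐂[t]) (ho : Odd (orderOf x)) : x ∈ oc t :=
  h.nilp2 ht x hx ho

theorem exists_mul {t c : G} (ht : IsInv t) {T : Subgroup G} (hT : IsSylowIn 2 T 𝐂[t])
    (hc : c ∈ 𝐂[t]) : ∃ o ∈ oc t, ∃ s ∈ T, o * s = c := by
  rw [← (h.nilp2 ht).sup_sylow hT] at hc
  exact (mem_sup_iff_of_le_normalizer' (hT.le.trans (le_normalizer_oc t))).1 hc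

/-- Fusion in the centralizer of an involution takes place in a Sylow subgroup. -/
theorem fus {t c a : G} (ht : IsInv t) {T : Subgroup G} (hT : IsSylowIn 2 T 𝐂[t])
    (hc : c ∈ 𝐂[t]) (ha : a ∈ T) (h1 : c * a * c⁻¹ ∈ T) :
    ∃ s ∈ T, s * a * s⁻¹ = c * a * c⁻¹ := by
  obtain ⟨o, ho, s, hs, rfl⟩ := h.exists_mul ht hT hc
  refine ⟨s, hs, ?_⟩
  have h2 : s * a * s⁻¹ ∈ T := mul_mem (mul_mem hs ha) (inv_mem hs)
  have h3 : o * s * a * (o * s)⁻¹ * (s * a * s⁻¹)⁻¹ ∈ GW.Od 𝐂[t] ⊓ T := by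
    refine mem_inf.2 ⟨?_, mul_mem h1 (inv_mem h2)⟩
    have e : o * s * a * (o * s)⁻¹ * (s * a * s⁻¹)⁻¹ =
        o * (s * a * s⁻¹ * o⁻¹ * (s * a * s⁻¹)⁻¹) := by group
    rw [e]
    exact mul_mem ho (cmem (le_normalizer_oc t (hT.le h2)) (inv_mem ho))
  rw [GW.Od_inf_eq_bot hT.isPGroup, mem_bot, mul_inv_eq_one] at h3
  exact h3.symm

theorem gd {t : G} (ht : IsInv t) {A : Subgroup G} (hA : E8 A) (h1 : A ≤ 𝐂[t]) : Gd t := by
  have : Fact (Nat.Prime 2) := ⟨Nat.prime_two⟩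
  have hC := h.solC
  obtain ⟨T, h2, hT⟩ := IsSylowIn.exists_ge (IsElementaryAbelian.isPGroup hA.1) h1
  obtain ⟨z, u, hN⟩ := exists_N4 hT.isPGroup hA h2
  have htT : t ∈ T := mem_of_sylow hT ht (mem_centralizer_singleton_iff.2 rfl) hT.le
  have h3 : oc t ≤ wc (zpowers z ⊔ zpowers u) := by
    rw [← (hN.wc_eq hC (A := A ⊔ zpowers t) ⟨isElementaryAbelian_sup hA.1
      (isElementaryAbelian_zpowers (by rw [pow_two, ht.1])) (zpowers_le_cent h1),
      hA.2.trans (card_le_of_le le_sup_left)⟩ (sup_le h2 (zpowers_le_of_mem htT))).1]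
    exact oc_le_wc (mem_sup_right (mem_zpowers t)) ht.2
  have h4 : 𝐂[t] ≤ 𝐍(wc (zpowers z ⊔ zpowers u)) := fun c hc => by
    obtain ⟨o, ho, s, hs, rfl⟩ := h.exists_mul ht hT hc
    refine mul_mem (le_normalizer (h3 ho)) (mem_normalizer_of_map_conj_eq ?_)
    rw [← wc_map_conj, map_conj_eq_of_mem_normalizer (hN.le_normalizer hs)]
  have h5 : ∀ B, E8 B → B ≤ 𝐂[t] → wc B = wc (zpowers z ⊔ zpowers u) := fun B hB h5 => by
    obtain ⟨c, hc, h6⟩ := hT.exists_conj_le (IsElementaryAbelian.isPGroup hB.1) h5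
    have h7 := (hN.wc_eq hC (hB.conj c) h6).1
    rw [wc_map_conj, ← map_conj_eq_of_mem_normalizer (h4 hc)] at h7
    exact map_injective (MulAut.conj c).injective h7
  exact fun B B' a b c d => (h5 B a b).trans (h5 B' c d).symm

end IGp

/-- A four-group containing all involutions of its centralizer whose normalizer is transitive
on its involutions. -/
structure Tr4 (E : Subgroup G) : Prop where
  sq : ∀ x ∈ E, x * x = 1
  card : Nat.card E = 4
  iso : ∀ e ∈ 𝐂(E), e * e = 1 → e ∈ E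
  tr : ∀ x ∈ E, x ≠ 1 → ∀ y ∈ E, y ≠ 1 → ∃ g ∈ 𝐍(E), g * x * g⁻¹ = y

theorem card_four {a b : G} (ha : IsInv a) (hb : IsInv b) (hne : a ≠ b) (hc : a * b = b * a) :
    Nat.card ↥(zpowers a ⊔ zpowers b) = 4 :=
  le_antisymm (E6.Rk.card_le_four fun _ hx => mem_four ha.1 hb.1 hc hx) (four_le_card ha hb hne)

omit [Finite G] in
theorem mem_cent_four {a b e : G} :
    e ∈ 𝐂((zpowers a ⊔ zpowers b : Subgroup G)) ↔ e ∈ 𝐂[a] ∧ e ∈ 𝐂[b] := by
  constructor
  · intro he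
    exact ⟨mem_centralizer_singleton_iff.2 (he a (mem_sup_left (mem_zpowers a))).symm,
      mem_centralizer_singleton_iff.2 (he b (mem_sup_right (mem_zpowers b))).symm⟩
  · rintro ⟨h1, h2⟩
    have : zpowers a ⊔ zpowers b ≤ 𝐂[e] :=
      sup_le (zpowers_le.2 (mem_centralizer_singleton_iff.2
        (mem_centralizer_singleton_iff.1 h1).symm)) (zpowers_le.2
        (mem_centralizer_singleton_iff.2 (mem_centralizer_singleton_iff.1 h2).symm))
    exact fun x hx => mem_centralizer_singleton_iff.1 (this hx)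

theorem tr4_of {a b g k : G} (ha : IsInv a) (hb : IsInv b) (hne : a ≠ b) (hc : a * b = b * a)
    (h8 : ¬ ∃ B, E8 B ∧ B ≤ 𝐂[a] ∧ B ≤ 𝐂[b]) (g1 : g * a * g⁻¹ = a) (g2 : g * b * g⁻¹ = a * b)
    (k1 : k * b * k⁻¹ = b) (k2 : k * a * k⁻¹ = b * a) : Tr4 (zpowers a ⊔ zpowers b) := by
  have m1 : a ∈ zpowers a ⊔ zpowers b := mem_sup_left (mem_zpowers a)
  have m2 : b ∈ zpowers a ⊔ zpowers b := mem_sup_right (mem_zpowers b)
  have hn : ∀ g : G, g * a * g⁻¹ ∈ zpowers a ⊔ zpowers b → g * b * g⁻¹ ∈ zpowers a ⊔ zpowers b →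
      g ∈ 𝐍((zpowers a ⊔ zpowers b : Subgroup G)) := fun g h1 h2 =>
    mem_normalizer_of_conj_mem fun x hx => by
      rcases mem_four ha.1 hb.1 hc hx with e | e | e | e <;> rw [e]
      · simp
      · exact h1
      · exact h2
      · rw [← _root_.conj_mul]
        exact mul_mem h1 h2
  have hg := hn g (g1.symm ▸ m1) (g2.symm ▸ mul_mem m1 m2)
  have hk := hn k (k2.symm ▸ mul_mem m2 m1) (k1.symm ▸ m2)
  have h1 : ∀ x ∈ zpowers a ⊔ zpowers b, x ≠ 1 →
      ∃ g ∈ 𝐍((zpowers a ⊔ zpowers b : Subgroup G)), g * x * g⁻¹ = a * b := fun x hx h1 => by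
    rcases mem_four ha.1 hb.1 hc hx with e | e | e | e
    · exact absurd e h1
    · exact ⟨k, hk, by rw [e, k2, hc]⟩
    · exact ⟨g, hg, by rw [e, g2]⟩
    · exact ⟨1, one_mem _, by simp [e]⟩
  refine ⟨fun x hx => ea_sq (isElementaryAbelian_four ha.1 hb.1 hc) hx, card_four ha hb hne hc,
    fun e he hee => ?_, fun x hx x1 y hy y1 => ?_⟩
  · by_contra h2
    obtain ⟨h3, h4⟩ := mem_cent_four.1 he
    obtain ⟨B, h5, h6, h7, -⟩ := exists_E8_three ha hb hne hc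
      ⟨hee, fun k => h2 (k ▸ one_mem _)⟩ h3 h4 (by
        rintro (k | k | k) <;> exact h2 (by rw [k]; first | exact m1 | exact m2 | exact mul_mem m1 m2))
    exact h8 ⟨B, h5, h6, h7⟩
  · obtain ⟨c, h2, h3⟩ := h1 x hx x1
    obtain ⟨d, h4, h5⟩ := h1 y hy y1
    refine ⟨d⁻¹ * c, mul_mem (inv_mem h4) h2, ?_⟩
    calc _ = d⁻¹ * (c * x * c⁻¹) * d := by group
      _ = y := by rw [h3, ← h5]; group

theorem Tr4.cj {E : Subgroup G} (h : Tr4 E) (m : G) : Tr4 (m •ᶜ E) := by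
  refine ⟨sq_cj h.sq m, (card_map_conj m E).trans h.card, fun e he hee => ?_,
    fun x hx x1 y hy y1 => ?_⟩
  · refine mem_cj.2 (h.iso _ (fun x hx => ?_) ?_)
    · have := he _ (cj_mem (g := m) hx)
      calc _ = m⁻¹ * (m * x * m⁻¹ * e) * m := by group
        _ = _ := by rw [this]; group
    · calc _ = m⁻¹ * (e * e) * m := by group
        _ = 1 := by rw [hee]; group
  · obtain ⟨g, hg, e⟩ := h.tr _ (mem_cj.1 hx) (fun e => x1 (by
      calc x = m * (m⁻¹ * x * m) * m⁻¹ := by group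
        _ = 1 := by rw [e]; group)) _ (mem_cj.1 hy) (fun e => y1 (by
      calc y = m * (m⁻¹ * y * m) * m⁻¹ := by group
        _ = 1 := by rw [e]; group))
    refine ⟨m * g * m⁻¹, by rw [norm_cj]; exact cj_mem hg, ?_⟩
    calc _ = m * (g * (m⁻¹ * x * m) * g⁻¹) * m⁻¹ := by group
      _ = y := by rw [e]; group

/-- Such a four-group is conjugate to the given normal four-group of a Sylow subgroup, or this
Sylow subgroup has maximal class. -/
theorem Tr4.cases {E S : Subgroup G} (h : Tr4 E) (hS : IsSylowIn 2 S ⊤) {z u : G}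
    (hN : N4 S z u) : (∃ m : G, m •ᶜ E = zpowers z ⊔ zpowers u) ∨
      ∃ t, IsInv t ∧ t ≠ z ∧ S ⊓ 𝐂[t] = zpowers z ⊔ zpowers t := by
  have : Fact (Nat.Prime 2) := ⟨Nat.prime_two⟩
  obtain ⟨R, h1, hR⟩ := IsSylowIn.exists_ge (isPGroup_of_sq h.sq) (le_cent_of_sq h.sq)
  obtain ⟨m, -, h2⟩ := hS.exists_conj_le hR.isPGroup le_top
  have h' := h.cj m
  have h3 : m •ᶜ E ≤ S := (map_mono h1).trans h2
  have hR' : IsSylowIn 2 (m •ᶜ R) 𝐂(m •ᶜ E) := by
    have := hR.map_conj m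
    rwa [← centralizer_map_conj] at this
  set F := m •ᶜ E with hF
  have hzF : z ∈ F := h'.iso z (fun x hx => mem_centralizer_singleton_iff.1 (hN.cent (h3 hx)))
    hN.zi.1
  obtain ⟨t, ht, h4⟩ := SetLike.not_le_iff_exists.1 fun h9 : F ≤ zpowers z => by
    have := card_le_of_le h9
    rw [hN.zi.card_zpowers, h'.card] at this
    omega
  have hti : IsInv t := ⟨h'.sq t ht, fun e => h4 (e ▸ one_mem _)⟩
  have hne : z ≠ t := fun e => h4 (e ▸ mem_zpowers _)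
  have hzt : z * t = t * z := comm_of_sq h'.sq hzF ht
  have h5 : zpowers z ⊔ zpowers t = F := eq_of_le_of_card_ge
    (sup_le (zpowers_le_of_mem hzF) (zpowers_le_of_mem ht))
    (h'.card.le.trans (four_le_card hN.zi hti hne))
  have hc : ∀ c ∈ S, c ∈ 𝐂[t] → c ∈ 𝐂(F) := fun c a b => h5 ▸ mem_cent_four.2 ⟨hN.cent a, b⟩
  by_cases h6 : t ∈ 𝐂[u]
  · refine Or.inl ⟨m, (eq_of_le_of_card_ge (sup_le (zpowers_le_of_mem hzF) (zpowers_le_of_mem
      (h'.iso u (hc u hN.um (mem_centralizer_singleton_iff.2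
        (mem_centralizer_singleton_iff.1 h6).symm)) hN.ui.1)))
      (h'.card.le.trans (four_le_card hN.zi hN.ui hN.ne))).symm⟩
  refine Or.inr ⟨t, hti, hne.symm, le_antisymm ?_ ?_⟩
  swap
  · rw [h5]
    exact le_inf h3 fun x hx => mem_centralizer_singleton_iff.2 (comm_of_sq h'.sq hx ht)
  have hsq : ∀ c ∈ S, c * c ∈ 𝐂[u] := fun c a => by
    by_cases b : c ∈ 𝐂[u]
    · exact mul_mem b b
    · exact hN.mul_mem_cent a a b b
  have hzu : z ∈ 𝐂[u] := mem_centralizer_singleton_iff.2 hN.comm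
  have key : ∀ c ∈ S, c ∈ 𝐂[t] → c * c ∈ F → c ∈ F := fun c a b d => by
    refine h'.iso c (hc c a b) ?_
    rcases mem_four hN.zi.1 hti.1 hzt (h5.ge d) with e | e | e | e
    · exact e
    · exfalso
      obtain ⟨g, hg, e1⟩ := h'.tr z hzF hN.zi.2 t ht hti.2
      have h7 : g * c * g⁻¹ ∈ 𝐂(F) := cmem (FT.U4.norm_le_norm_cent _ hg) (hc c a b)
      obtain ⟨k, hk, h8⟩ := hR'.exists_conj_le
        ((two_of_mem hS.isPGroup a).map (MulAut.conj g).toMonoidHom)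
        (by rw [MonoidHom.map_zpowers]; exact zpowers_le_of_mem h7)
      have h9 : k * (g * c * g⁻¹) * k⁻¹ ∈ S :=
        h2 (h8 (mem_map_of_mem _ (mem_map_of_mem _ (mem_zpowers c))))
      have h10 := hsq _ h9
      rw [_root_.conj_mul, _root_.conj_mul, e, e1, ← hk t ht, mul_inv_cancel_right] at h10
      exact h6 h10
    · exact absurd (e ▸ hsq c a) h6
    · exact absurd ((Subgroup.mul_mem_cancel_left _ hzu).1 (e ▸ hsq c a)) h6
  have main : ∀ n : ℕ, ∀ c ∈ S, c ∈ 𝐂[t] → c ^ 2 ^ n = 1 → c ∈ F := by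
    intro n
    induction n with
    | zero => exact fun c _ _ d => by rw [pow_zero, pow_one] at d; exact d ▸ one_mem _
    | succ n ih =>
      exact fun c a b d => key c a b (ih _ (mul_mem a a) (mul_mem b b) (by
        rw [← pow_two, ← pow_mul, ← pow_succ', d]))
  intro c hc
  obtain ⟨n, hn⟩ := hS.isPGroup ⟨c, hc.1⟩
  exact h5.ge (main n c hc.1 hc.2 (congrArg Subtype.val hn))

omit [Finite G] in
theorem n4_conj {S : Subgroup G} {z u t : G} (hN : N4 S z u) (htS : t ∈ S) (ht : IsInv t)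
    (h : t ∉ 𝐂[u]) : u * z * u⁻¹ = z ∧ u * t * u⁻¹ = z * t := by
  refine ⟨by rw [← hN.comm, mul_inv_cancel_right], ?_⟩
  have h1 := hN.conj' htS h
  calc u * t * u⁻¹ = u * (t * u * t⁻¹) * t := by rw [hN.ui.inv_eq, ht.inv_eq, mul_assoc, mul_assoc,
        mul_assoc, mul_assoc, ht.1, mul_one]
    _ = z * t := by rw [h1, hN.comm, hN.ui.mul_mul]

theorem not_e8_of_cent {S A : Subgroup G} (hS : IsPGroup 2 S) {z t : G} (hz : IsInv z)
    (ht : IsInv t) (hne : t ≠ z) (h : S ⊓ 𝐂[t] = zpowers z ⊔ zpowers t) (hA : E8 A)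
    (h1 : A ≤ S) : False := by
  have : Fact (Nat.Prime 2) := ⟨Nat.prime_two⟩
  have h8 := hA.2
  have h2 : z ∈ S ⊓ 𝐂[t] := h ▸ mem_sup_left (mem_zpowers z)
  have h3 : t ∈ S ⊓ 𝐂[t] := h ▸ mem_sup_right (mem_zpowers t)
  have h5 := card_four hz ht hne.symm (mem_centralizer_singleton_iff.1 h2.2)
  have h6 : Nat.card (centralizer ({⟨t, h3.1⟩} : Set S)) = 4 := by
    rw [← h5, ← h, ← card_map_of_injective S.subtype_injective, ← centralizer_zpowers',
      map_subtype_centralizer, MonoidHom.map_zpowers, centralizer_zpowers']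
    rfl
  by_cases hab : IsMulCommutative S
  · have h7 := card_le_of_le (show A ≤ S ⊓ 𝐂[t] from fun a ha => ⟨h1 ha,
      mem_centralizer_singleton_iff.2 (congrArg Subtype.val
        (hab.is_comm.comm (⟨a, h1 ha⟩ : S) ⟨t, h3.1⟩))⟩)
    rw [h, h5] at h7
    omega
  obtain ⟨n, x, y, hxy⟩ := PGrp.isDQSD_of_card_centralizer hS hab h6
  have h4 := hxy.pRankLE_two (A.subgroupOf S) (by have := hA.1.1; infer_instance)
    fun a ha => Subtype.ext (hA.1.2 a ha)
  rw [card_subgroupOf_of_le h1] at h4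
  omega

end CfsgLib.IG
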