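import Cfsg.Agent.Lib.IG.RankA
import Cfsg.Agent.Lib.SEB.Main
import Cfsg.Agent.Lib.H8AbTI

/-!
# Groups whose involution centralizers have normal `2`-complements: rank at least three
-/

set_option autoImplicit false

namespace CfsgLib.IG

open Subgroup Cfsg CfsgLib.FT.BGN CfsgLib.Cit CfsgLib.H1 CfsgLib.SE CfsgLib.Sig CfsgLib.Cop

universe u

variable {G : Type*} [Group G] [Finite G]

theorem thompson (hr : pResidual 2 G = ⊤) {S : Subgroup G} (hS : IsSylowIn 2 S ⊤) {z u t : G}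
    (hN : N4 S z u) (htS : t ∈ S) (ht : IsInv t) : ∃ g : G, g * t * g⁻¹ ∈ S ⊓ 𝐂[u] := by
  obtain ⟨g, -, hg⟩ := exists_conj_mem_of_relIndex_dvd (R := S) (R₀ := 𝐂[u]) (hr ▸ hS)
    (hN.relIndex_dvd le_rfl) htS ht.orderOf
  exact ⟨g⁻¹, by rwa [inv_inv]⟩

theorem e8_cent0 {S A : Subgroup G} {z u : G} (hN : N4 S z u) (hA : E8 A) (h1 : A ≤ S) {t : G}
    (ht : IsInv t) (htS : t ∈ S) (h3 : t ∈ 𝐂[u]) : ∃ B, E8 B ∧ B ≤ 𝐂[z] ∧ B ≤ 𝐂[t] := by
  obtain ⟨B, hB, h2⟩ := hN.exists_E8 hA h1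
  by_cases h4 : t = z ∨ t = u ∨ t = z * u
  · refine ⟨B, hB, h2.trans (inf_le_left.trans hN.cent), h2.trans ?_⟩
    rcases h4 with e | e | e <;> rw [e]
    exacts [inf_le_left.trans hN.cent, inf_le_right, hN.cent_mul]
  · obtain ⟨B, h5, h7, -, h8⟩ := exists_E8_three hN.zi hN.ui hN.ne hN.comm ht (hN.cent htS) h3 h4
    exact ⟨B, h5, h7, h8⟩

theorem e8_cent (hr : pResidual 2 G = ⊤) {S A : Subgroup G} (hS : IsSylowIn 2 S ⊤) {z u : G}
    (hN : N4 S z u) (hA : E8 A) (h1 : A ≤ S) {t : G} (ht : IsInv t) (htS : t ∈ S) :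
    ∃ B, E8 B ∧ B ≤ 𝐂[z] ∧ B ≤ 𝐂[t] := by
  have : Fact (Nat.Prime 2) := ⟨Nat.prime_two⟩
  by_cases h3 : t ∈ 𝐂[u]
  · exact e8_cent0 hN hA h1 ht htS h3
  by_contra h8
  have h8' : ¬ ∃ B, E8 B ∧ B ≤ 𝐂[t] ∧ B ≤ 𝐂[z] := fun ⟨B, a, b, c⟩ => h8 ⟨B, a, c, b⟩
  have hne : t ≠ z := fun e => h3 (e ▸ mem_centralizer_singleton_iff.2 hN.comm)
  have hc : t * z = z * t := mem_centralizer_singleton_iff.1 (hN.cent htS)
  obtain ⟨g, hg⟩ := thompson hr hS hN htS ht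
  obtain ⟨B, hB, -, h4⟩ := e8_cent0 hN hA h1 (ht.conj g) hg.1 hg.2
  have h5 : g⁻¹ •ᶜ B ≤ 𝐂[t] := by simpa [mul_assoc] using map_le_cent h4 g⁻¹
  obtain ⟨R, hR⟩ := IsSylowIn.exists_in (p := 2) (𝐂[t] ⊓ 𝐂[z])
  obtain ⟨k, k1, k2⟩ := exists_move hN.zi hne hc hR (fun e he _ hi => by
    by_contra h2
    obtain ⟨B, h3, h4, h5, -⟩ := exists_E8_three ht hN.zi hne hc hi (hR.le he).1 (hR.le he).2 h2
    exact h8' ⟨B, h3, h4, h5⟩) (fun h6 => by
    obtain ⟨x, -, h7⟩ := h6.exists_conj_le (IsElementaryAbelian.isPGroup (hB.conj g⁻¹).1) h5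
    exact h8' ⟨_, (hB.conj g⁻¹).conj x, h7.trans (hR.le.trans inf_le_left),
      h7.trans (hR.le.trans inf_le_right)⟩)
  obtain ⟨u1, u2⟩ := n4_conj hN htS ht h3
  have hT := tr4_of ht hN.zi hne hc h8' k1 k2 u1 u2
  rcases hT.cases hS hN with ⟨m, hm⟩ | ⟨s, h6, h7, h9⟩
  · have h6 := hT.cj m
    rw [hm] at h6
    obtain ⟨B, hB, h2⟩ := hN.exists_E8 hA h1
    have h7 := card_le_of_le (show B ≤ zpowers z ⊔ zpowers u from fun e he => h6.iso e
      (mem_cent_four.2 ⟨hN.cent (h2 he).1, (h2 he).2⟩) (ea_sq hB.1 he))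
    have h9 := hB.2
    rw [h6.card] at h7
    omega
  · exact not_e8_of_cent hS.isPGroup hN.zi h6 h7 h9 hA h1

theorem res_eq_top (hs : IsSimpleGroup G) (hna : ¬ IsMulCommutative G) : pResidual 2 G = ⊤ := by
  have : Fact (Nat.Prime 2) := ⟨Nat.prime_two⟩
  exact (PRes.pResidual_normal.eq_bot_or_eq_top).resolve_left fun e =>
    hna ⟨⟨IsSimpleGroup.comm_iff_isSolvable.2
      (Cop.solvable_of_isPGroup (PRes.pResidual_eq_bot_iff.1 e))⟩⟩

theorem IGp.se_or (h : IGp G) (hs : IsSimpleGroup G) (hna : ¬ IsMulCommutative G) {A : Subgroup G}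
    (hA : E8 A) : (∃ M : Subgroup G, IsStronglyEmbedded M) ∨ ∀ t : G, orderOf t = 2 → oc t = ⊥ := by
  have : Fact (Nat.Prime 2) := ⟨Nat.prime_two⟩
  have hC := h.solC
  have hr := res_eq_top hs hna
  obtain ⟨S, h1, hS⟩ := IsSylowIn.exists_ge (IsElementaryAbelian.isPGroup hA.1) (le_top : A ≤ ⊤)
  obtain ⟨z, u, hN⟩ := exists_N4 hS.isPGroup hA h1
  obtain ⟨h2, hWo⟩ := hN.wc_eq hC hA h1
  have hE : ∀ t : G, IsInv t → ∃ B, E8 B ∧ B ≤ 𝐂[t] := fun t ht => by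
    obtain ⟨m, -, h4⟩ := hS.exists_conj_le (Invol.isPGroup_zpowers ht.1) le_top
    obtain ⟨B, h5, -, h7⟩ := e8_cent hr hS hN hA h1 (ht.conj m)
      (h4 (mem_map_of_mem _ (mem_zpowers t)))
    exact ⟨_, h5.conj m⁻¹, by simpa [mul_assoc] using map_le_cent h7 m⁻¹⟩
  have hSW : S ≤ normalizer (wc A : Set G) := fun s hs => mem_normalizer_of_map_conj_eq (by
    rw [h2, ← wc_map_conj, map_conj_eq_of_mem_normalizer (hN.le_normalizer hs)])
  have h3 : ∀ t ∈ normalizer (wc A : Set G), IsInv t → ∀ B, E8 B → B ≤ centralizer {t} →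
      wc B = wc A := fun t ht hi B hB h3 => by
    obtain ⟨m, hm, h4⟩ := (hS.mono hSW le_top).exists_conj_le (Invol.isPGroup_zpowers hi.1)
      (zpowers_le_of_mem ht)
    have h5 : m * t * m⁻¹ ∈ S := h4 (mem_map_of_mem _ (mem_zpowers t))
    obtain ⟨B', h7, h8, h9⟩ := e8_cent hr hS hN hA h1 (hi.conj m) h5
    have h10 := (h.gd (hi.conj m) h7 h9 _ _ (hB.conj m) (map_le_cent h3 m) h7 h9).trans
      (h.gd hN.zi h7 h8 _ _ h7 h8 hA (h1.trans hN.cent))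
    rw [wc_map_conj, ← map_conj_eq_of_mem_normalizer hm] at h10
    exact map_injective (MulAut.conj m).injective h10
  by_cases h0 : wc A = ⊥
  · refine Or.inr fun t ht => ?_
    have hi : IsInv t := ⟨mul_self_of_orderOf ht, ne_one_of_orderOf ht⟩
    obtain ⟨B, hB, h4⟩ := hE t hi
    have h5 := h3 t (by rw [h0]; exact le_normalizer_of_normal (mem_top t)) hi (B ⊔ zpowers t)
      ⟨isElementaryAbelian_sup hB.1 (isElementaryAbelian_zpowers (by rw [pow_two, hi.1]))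
        (zpowers_le_cent h4), hB.2.trans (card_le_of_le le_sup_left)⟩
      (sup_le h4 (zpowers_le_of_mem (mem_centralizer_singleton_iff.2 rfl)))
    exact eq_bot_iff.2 ((oc_le_wc (mem_sup_right (mem_zpowers t)) hi.2).trans (h5.trans h0).le)
  · refine Or.inl ⟨_, isStronglyEmbedded_of (normalizer_ne_top h0 fun e =>
      hN.zi.not_odd (e ▸ mem_top z) hWo) hN.zi (hSW hN.zm) fun v g hv a b => ?_⟩
    obtain ⟨B, hB, h4⟩ := hE v hv
    have h5 := h3 _ b (hv.conj g) _ (hB.conj g) (map_le_cent h4 g)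
    rw [wc_map_conj, h3 v a hv B hB h4] at h5
    exact mem_normalizer_of_map_conj_eq h5

theorem IGp.cit_of_ro (h : IGp G) {H Q : Subgroup G} {t : G} (R : Suz.RO H Q t)
    (h2 : Suz.Rank2 Q) (hc : H.normalCore = ⊥) : CIT G := by
  have hQ := R.isPGroup_two h2
  have key : ∀ v ∈ Q, IsInv v → ∀ y, v * y = y * v → Odd (orderOf y) → y = 1 := by
    intro v hv hi y hy ho
    have h1 := R.mem_H_of_comm hv hi.2 hy
    have h3 := h.mem_oc hi (mem_centralizer_singleton_iff.2 hy.symm) ho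
    have h4 : ∀ x ∈ Q, x * y = y * x := fun x hx => by
      have h5 : x * y * x⁻¹ * y⁻¹ ∈ GW.Od 𝐂[v] ⊓ Q := mem_inf.2
        ⟨mul_mem (cmem (le_normalizer_oc v (mem_centralizer_singleton_iff.2
          (R.invol_central h2 hv hi.1 hx).symm)) h3) (inv_mem h3), by
          simpa only [mul_assoc] using mul_mem hx (R.norm' h1 (inv_mem hx))⟩
      rw [GW.Od_inf_eq_bot hQ, mem_bot, mul_inv_eq_one, mul_inv_eq_iff_eq_mul] at h5
      exact h5
    obtain ⟨x, hx, d, hd, e⟩ := R.dec y h1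
    have h5 : Commute x⁻¹ y := h4 _ (inv_mem hx)
    have h6 : x ^ Nat.card (Suz.Dg H t) = y ^ Nat.card (Suz.Dg H t) := by
      have h7 := R.D_pow hd
      rw [show d = x⁻¹ * y by rw [e, inv_mul_cancel_left], h5.mul_pow, inv_pow,
        inv_mul_eq_one] at h7
      exact h7
    have h7 : x ^ Nat.card (Suz.Dg H t) = 1 :=
      eq_one_of_two_of_odd (two_of_mem hQ (pow_mem hx _))
        (h6 ▸ ho.of_dvd_nat (orderOf_pow_dvd _))
    have h8 : x = 1 := eq_one_of_two_of_odd (two_of_mem hQ hx)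
      (R.odd.of_dvd_nat (orderOf_dvd_of_pow_eq_one h7))
    rw [h8, one_mul] at e
    rw [← mem_bot, ← hc, R.mem_normalCore_iff]
    exact ⟨e ▸ hd, h4⟩
  intro v y hv hv1 hy ho
  obtain ⟨s, r, hs⟩ := R.exists_dist
  obtain ⟨g, rfl⟩ := R.invol_conj_s hs hv1 hv
  have hi : IsInv s := by
    have := (show IsInv (g⁻¹ * s * g) from ⟨hv, hv1⟩).conj g
    simpa [mul_assoc] using this
  have h1 := key s hs.1 hi (g * y * g⁻¹) (by
    calc _ = g * (g⁻¹ * s * g * y) * g⁻¹ := by group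
      _ = _ := by rw [hy]; group) (by
    rwa [show orderOf (g * y * g⁻¹) = orderOf y from (MulAut.conj g).orderOf_eq y])
  simpa [mul_inv_eq_one] using h1

theorem IGp.cit_of_e8 {G : Type u} [Group G] [Finite G] (h : IGp G) (hs : IsSimpleGroup G)
    (hna : ¬ IsMulCommutative G) {A : Subgroup G} (hA : E8 A) : CIT G := by
  rcases h.se_or hs hna hA with ⟨H, hH⟩ | h1
  · have hc : H.normalCore = ⊥ := (hs.eq_bot_or_eq_top_of_normal _
      inferInstance).resolve_right fun e => hH.1 (top_le_iff.1 (e ▸ normalCore_le _))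
    obtain ⟨Q, t, R, h2⟩ := SEB.bender hH hc (AbTI.rk2_of_simple fun hsol =>
      hna ⟨⟨IsSimpleGroup.comm_iff_isSolvable.2 hsol⟩⟩)
    exact h.cit_of_ro R h2 hc
  · intro v y hv hv1 hy ho
    have hi : IsInv v := ⟨hv, hv1⟩
    have h2 := h.mem_oc hi (mem_centralizer_singleton_iff.2 hy.symm) ho
    rwa [h1 v hi.orderOf, mem_bot] at h2

end CfsgLib.IG
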